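import Groth.Agent.GrpAmpleLib.Nil
import Groth.Agent.ChevThmLib.Disconn
import Groth.Agent.SemiAbLib.Points
import Groth.Agent.DenseSubLib.Basic
import Groth.Agent.CycBivLib.Disjoint
import Groth.Agent.GrpSchLib.Cartier
import Groth.Agent.AVAmpleLib.Exist
import Groth.Agent.AlbLib.AVBasic
import Groth.Agent.AmpleDevLib.Pull

/-!
# An ample module on a group scheme of finite type over an algebraically closed field
-/

set_option autoImplicit false
set_option linter.style.haveILetI false
set_option backward.isDefEq.respectTransparency false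
set_option maxHeartbeats 800000

universe u

open CategoryTheory CategoryTheory.Limits MonoidalCategory CartesianMonoidalCategory AlgebraicGeometry
open scoped MonObj

noncomputable section

namespace GrpAmpleLib

attribute [-instance] CategoryTheory.Hom.commGroup

variable {k : Type u} [Field k] [IsAlgClosed k]

/-- A group scheme of finite type maps affinely to a smooth closed subgroup with the same points. -/
theorem exists_affine_to_smooth (G : Over (Spec (CommRingCat.of k))) [GrpObj G] [LocallyOfFiniteType G.hom]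
    [QuasiCompact G.hom] :
    ∃ (B : Over (Spec (CommRingCat.of k))) (_ : GrpObj B) (i : B ⟶ G) (ψ : G.left ⟶ B.left),
      IsClosedImmersion i.left ∧ Smooth B.hom ∧ IsAffineHom ψ := by
  obtain ⟨B, iB, i, hi, hci, hsm, hr⟩ := DenseSubLib.exists_smooth_subgroup (A := G) ⊤
  haveI := hci
  haveI : Surjective i.left := ⟨Set.range_eq_univ.1 (by rw [hr, Subgroup.coe_top, SemiAbLib.closure_pt_univ])⟩
  suffices h : ∃ ψ : G.left ⟶ B.left, IsAffineHom ψ by
    obtain ⟨ψ, hψ⟩ := h
    exact ⟨B, iB, i, ψ, hci, hsm, hψ⟩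
  haveI : IsSeparated G.hom := Groth.Agent.GrpField.isSeparated_grp (G := G)
  haveI : G.left.IsSeparated := ⟨by rw [← Limits.terminal.comp_from G.hom]; infer_instance⟩
  haveI : IsLocallyNoetherian G.left := LocallyOfFiniteType.isLocallyNoetherian G.hom
  haveI : CompactSpace G.left := QuasiCompact.compactSpace_of_compactSpace G.hom
  obtain ⟨p, hp⟩ := CharP.exists k
  rcases CharP.char_is_prime_or_zero k p with hpp | rfl
  · haveI := Fact.mk hpp
    haveI : FrobSch.IsCharP G.left p := FrobSch.IsCharP.of_hom G.hom p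
    exact exists_affine_to_closed i.left p
  · haveI := CharP.charP_to_charZero k
    haveI : Smooth G.hom := Groth.Agent.GrpSchLib.smooth_of_charZero G
    haveI : IsReduced G.left := AlgSpLib.isReduced_of_smooth G.hom
    haveI : IsIso i.left := isIso_of_isClosedImmersion_of_surjective i.left
    exact ⟨inv i.left, inferInstance⟩

/-- A smooth group scheme maps affinely to its identity component, by translations. -/
theorem exists_affine_to_component (B : Over (Spec (CommRingCat.of k))) [GrpObj B] [Smooth B.hom]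
    [QuasiCompact B.hom] :
    ∃ (H : Over (Spec (CommRingCat.of k))) (_ : GrpObj H) (i₀ : H ⟶ B) (f : B.left ⟶ H.left),
      IsClosedImmersion i₀.left ∧ Smooth H.hom ∧ ConnectedSpace H.left ∧ IsAffineHom f := by
  classical
  obtain ⟨H, iH, i₀, -, hci, hoi, hsm, -, -, hconn, -, t, ht⟩ := ChevThmLib.exists_component' B
  haveI := hci; haveI := hoi; haveI := hconn
  let e : (𝟙_ (Over (Spec (CommRingCat.of k))) ⟶ B) → (H.left ⟶ B.left) := fun c => (i₀ ≫ AVAmpleLib.tR c).left
  have hoe : ∀ c, IsOpenImmersion (e c) := fun c => by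
    haveI : IsIso (AVAmpleLib.tR c).left := inferInstanceAs (IsIso ((Over.forget _).map (AVAmpleLib.tR c)))
    show IsOpenImmersion (i₀ ≫ AVAmpleLib.tR c).left
    rw [Over.comp_left]; infer_instance
  have hce : ∀ c, IsClosedImmersion (e c) := fun c => by
    haveI : IsIso (AVAmpleLib.tR c).left := inferInstanceAs (IsIso ((Over.forget _).map (AVAmpleLib.tR c)))
    show IsClosedImmersion (i₀ ≫ AVAmpleLib.tR c).left
    rw [Over.comp_left]; infer_instance
  have hclop : ∀ c, IsClopen (Set.range (e c)) := fun c =>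
    ⟨(e c).isClosedEmbedding.isClosed_range, (e c).isOpenEmbedding.isOpen_range⟩
  have hsame : ∀ a b, (Set.range (e a) ∩ Set.range (e b)).Nonempty → Set.range (e a) = Set.range (e b) := by
    rintro a b ⟨x, hxa, hxb⟩
    refine subset_antisymm ?_ ?_
    · exact (isPreconnected_range (e a).continuous).subset_isClopen (hclop b) ⟨x, hxa, hxb⟩
    · exact (isPreconnected_range (e b).continuous).subset_isClopen (hclop a) ⟨x, hxb, hxa⟩
  let I : Type u := ↥(t.image fun c => Set.range (e c))
  have hI : ∀ D : I, ∃ c ∈ t, Set.range (e c) = D.1 := fun D => Finset.mem_image.1 D.2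
  choose c hct hc using hI
  let Φ : (∐ fun _ : I => H.left) ⟶ B.left := Sigma.desc fun D => e (c D)
  haveI : ∀ D : I, IsOpenImmersion (e (c D)) := fun D => hoe _
  haveI : IsOpenImmersion Φ := isOpenImmersion_sigmaDesc _ _ fun D D' hne => Set.disjoint_iff_inter_eq_empty.2 (by
    by_contra hnonempty
    have := hsame (c D) (c D') (Set.nonempty_iff_ne_empty.2 hnonempty)
    rw [hc, hc] at this
    exact hne (Subtype.ext this))
  haveI : Surjective Φ := ⟨Set.range_eq_univ.1 <| Set.eq_univ_of_forall fun x => by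
    by_contra hx
    haveI : JacobsonSpace B.left := LocallyOfFiniteType.jacobsonSpace B.hom
    have hop : IsOpen (⋃ D : I, Set.range (e (c D))) := isOpen_iUnion fun D => (hclop _).2
    have hcl : IsClosed (⋃ D : I, Set.range (e (c D))) := isClosed_iUnion_of_finite fun D => (hclop _).1
    obtain ⟨y, hy, hyc⟩ := nonempty_inter_closedPoints
      (show ((⋃ D : I, Set.range (e (c D)))ᶜ).Nonempty from ⟨x, fun hx' => by
        obtain ⟨D, z, rfl⟩ := Set.mem_iUnion.1 hx'
        exact hx ⟨(Sigma.ι (fun _ : I => H.left) D) z, by rw [← Scheme.Hom.comp_apply, Sigma.ι_desc]⟩⟩)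
      hop.isClosed_compl.isLocallyClosed
    obtain ⟨b, rfl⟩ := AVAmpleLib.exists_pt_eq y hyc
    obtain ⟨a, hat, z, hz⟩ := ht b
    refine hy (Set.mem_iUnion.2 ⟨⟨_, Finset.mem_image_of_mem _ hat⟩, ?_⟩)
    rw [hc]
    refine ⟨z.left (IsLocalRing.closedPoint k), ?_⟩
    rw [← hz, ← AVAmpleLib.point_tR, Category.assoc]
    rfl⟩
  haveI : Epi Φ.base := (TopCat.epi_iff_surjective _).2 Φ.surjective
  haveI : IsIso Φ := IsOpenImmersion.isIso Φ
  haveI : IsFinite (Sigma.desc fun _ : I => 𝟙 H.left) :=
    CycBivLib.isFinite_sigmaDesc (fun _ : I => 𝟙 H.left) fun y => ⟨⊤, trivial, Set.toFinite _⟩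
  exact ⟨H, iH, i₀, inv Φ ≫ Sigma.desc fun _ : I => 𝟙 H.left, hci, hsm, hconn, inferInstance⟩

/-- A group scheme of finite type over an algebraically closed field has an ample module. -/
theorem exists_isAmple_algClosed (G : Over (Spec (CommRingCat.of k))) [GrpObj G] [LocallyOfFiniteType G.hom]
    [QuasiCompact G.hom] : ∃ L : G.left.Modules, CohB1.IsAmple L := by
  obtain ⟨B, _, i, ψ, hci, hsm, hψ⟩ := exists_affine_to_smooth G
  haveI := hci; haveI := hsm; haveI := hψ
  haveI : QuasiCompact B.hom := by rw [← Over.w i]; infer_instance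
  -- the quotient by the largest connected affine normal subgroup
  obtain ⟨N, _, j, hj, -, Q, _, q, hqm, hqf, hqs, hker, hQp⟩ := ChevThmLib.exists_chevalley_any B
  haveI := hqm; haveI := hqf; haveI := hqs; haveI := hQp; haveI := hj.affine
  haveI : IsAffineHom q.left := ChevThmLib.isAffineHom_of_kernel j q hker
  obtain ⟨Q', _, i', ψ', hci', hsm', hψ'⟩ := exists_affine_to_smooth Q
  haveI := hci'; haveI := hsm'; haveI := hψ'
  haveI : IsProper Q'.hom := by rw [← Over.w i']; infer_instance
  obtain ⟨H, _, i₀, f, hci₀, hsm₀, hconn, hf⟩ := exists_affine_to_component Q'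
  haveI := hci₀; haveI := hsm₀; haveI := hconn; haveI := hf
  haveI : IsProper H.hom := by rw [← Over.w i₀]; infer_instance
  haveI : GeometricallyIntegral H.hom := AlbLib.geometricallyIntegral_grp H
  obtain ⟨M, hM⟩ := AVAmpleLib.exists_ample H
  exact ⟨_, AmpleDevLib.isAmple_pb (f := ψ ≫ q.left ≫ ψ' ≫ f) hM.1 hM⟩

end GrpAmpleLib

end
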