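import Groth.Prelude
import Mathlib.AlgebraicGeometry.Morphisms.ClosedImmersion
import Mathlib.RingTheory.Noetherian.Basic

/-!
# A Noetherian scheme of prime characteristic maps affinely to a closed subscheme with the same points

A power of the absolute Frobenius kills the nilradical, hence factors through such a subscheme.
-/

set_option autoImplicit false
set_option linter.style.haveILetI false

universe u

open CategoryTheory CategoryTheory.Limits AlgebraicGeometry TopologicalSpace Opposite

noncomputable section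

namespace GrpAmpleLib

variable (X : Scheme.{u}) (p : ℕ) [Fact p.Prime] [FrobSch.IsCharP X p]

instance isAffineHom_frob : IsAffineHom (FrobSch.frob X p) :=
  ⟨fun U hU => by simpa using hU⟩

/-- The powers of the absolute Frobenius. -/
def frobPow : ℕ → (X ⟶ X)
  | 0 => 𝟙 X
  | n + 1 => frobPow n ≫ FrobSch.frob X p

theorem isAffineHom_frobPow : ∀ n, IsAffineHom (frobPow X p n)
  | 0 => inferInstanceAs (IsAffineHom (𝟙 X))
  | n + 1 => by
    haveI := isAffineHom_frobPow n
    exact inferInstanceAs (IsAffineHom (frobPow X p n ≫ FrobSch.frob X p))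

theorem frobPow_app_eq_zero : ∀ (n : ℕ) (U : X.Opens) (s : Γ(X, U)), s ^ p ^ n = 0 → (frobPow X p n).app U s = 0
  | 0, U, s, h => by
    rw [pow_zero, pow_one] at h
    rw [h, map_zero]
  | n + 1, U, s, h => by
    show (frobPow X p n).app U (s ^ p) = 0
    refine frobPow_app_eq_zero n U (s ^ p) ?_
    rw [← pow_mul, mul_comm, ← pow_succ]
    exact h

variable {X}

/-- Sections in the kernel of a surjective closed immersion are nilpotent on affine opens. -/
theorem isNilpotent_of_mem_ker {B : Scheme.{u}} (i : B ⟶ X) [Surjective i] (U : X.affineOpens)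
    (s : Γ(X, U.1)) (hs : i.app U.1 s = 0) : IsNilpotent s := by
  rw [Scheme.isNilpotent_iff_basicOpen_eq_bot_of_isCompact U.2.isCompact, eq_bot_iff]
  intro x hx
  obtain ⟨b, rfl⟩ := i.surjective x
  have h : b ∈ i ⁻¹ᵁ X.basicOpen s := hx
  rw [Scheme.preimage_basicOpen, hs, Scheme.basicOpen_zero] at h
  exact h

/-- A Noetherian scheme of characteristic `p` maps by an affine morphism to any closed subscheme with the same
underlying space. -/
theorem exists_affine_to_closed [IsLocallyNoetherian X] [CompactSpace X] [X.IsSeparated] {B : Scheme.{u}}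
    (i : B ⟶ X) [IsClosedImmersion i] [Surjective i] (p : ℕ) [Fact p.Prime] [FrobSch.IsCharP X p] :
    ∃ ψ : X ⟶ B, IsAffineHom ψ := by
  classical
  obtain ⟨t, ht⟩ := isCompact_univ.elim_finite_subcover (fun U : X.affineOpens => (U.1 : Set X))
    (fun U => U.1.2) fun x _ => by
      obtain ⟨_, ⟨U, hU, rfl⟩, hxU, -⟩ := X.isBasis_affineOpens.exists_subset_of_mem_open (Set.mem_univ x) isOpen_univ
      exact Set.mem_iUnion.2 ⟨⟨U, hU⟩, hxU⟩
  have hnil : ∀ U : X.affineOpens, ∃ m : ℕ, nilradical Γ(X, U.1) ^ m = ⊥ := fun U => by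
    haveI := IsLocallyNoetherian.component_noetherian U
    exact IsNoetherianRing.isNilpotent_nilradical _
  choose m hm using hnil
  let n := t.sup m
  haveI := isAffineHom_frobPow X p n
  have hle : i.ker ≤ (frobPow X p n).ker := by
    refine Scheme.IdealSheafData.le_of_iSup_eq_top (fun U : t => U.1) (top_le_iff.1 fun x _ => ?_) fun U s hs => ?_
    · obtain ⟨U, hU, hxU⟩ := Set.mem_iUnion₂.1 (ht (Set.mem_univ x))
      exact Opens.mem_iSup.2 ⟨⟨U, hU⟩, hxU⟩
    · rw [Scheme.Hom.ker_apply, RingHom.mem_ker] at hs ⊢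
      refine frobPow_app_eq_zero X p n _ s ?_
      have h1 : s ∈ nilradical Γ(X, U.1.1) := isNilpotent_of_mem_ker i U.1 s hs
      have h2 : m U.1 ≤ p ^ n :=
        le_trans (Finset.le_sup (f := m) U.2) (Nat.lt_pow_self (Fact.out : p.Prime).one_lt).le
      have h3 := Ideal.pow_le_pow_right h2 (Ideal.pow_mem_pow h1 (p ^ n))
      rw [hm U.1] at h3
      exact h3
  refine ⟨IsClosedImmersion.lift i (frobPow X p n) hle, ?_⟩
  haveI : IsAffineHom (IsClosedImmersion.lift i (frobPow X p n) hle ≫ i) := by
    rw [IsClosedImmersion.lift_fac]; infer_instance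
  exact MorphismProperty.of_postcomp (W := @IsAffineHom) (W' := @IsSeparated) _ i inferInstance inferInstance

end GrpAmpleLib

end
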